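import Cfsg.Agent.Lib.MathieuOut.Abstract
import Cfsg.Prelude.Def_KGroupFacts

/-!
Automorphisms of a group that is rigidly generated by an element of order nineteen and an
involution.
-/

set_option autoImplicit false

namespace CfsgLib.J3.Outer

variable {G : Type*} [Group G] [Finite G]

/-- The hypotheses of the rigidity argument. -/
structure PairRigid (G : Type*) [Group G] where
  /-- The element of order nineteen. -/
  u : G
  /-- The involution. -/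
  v : G
  /-- An element raising to the fourth power. -/
  n : G
  /-- The involutions up to rotation. -/
  R : Set G
  ord : orderOf u = 19
  sq_not : ¬ 19 ^ 2 ∣ Nat.card G
  gen : Subgroup.closure ({u, v} : Set G) = ⊤
  norm : n * u * n⁻¹ = u ^ 4
  expo : ∀ k < 19, k ≠ 0 → ∃ m < 9, k = 4 ^ m % 19 ∨ k = 18 * 4 ^ m % 19
  vsq : v ^ 2 = 1
  vne : v ≠ 1
  cls : ∀ y : G, y ^ 2 = 1 → y ≠ 1 → ∃ i, ∃ r ∈ R, y = u ^ i * r * (u ^ i)⁻¹
  selfRel : (u * v) ^ 4 = 1 ∧ (u ^ 2 * v) ^ 3 = 1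
  rigid : ∀ r ∈ R, ((u * r) ^ 4 = 1 ∧ (u ^ 2 * r) ^ 3 = 1 ∨
    (u ^ 18 * r) ^ 4 = 1 ∧ (u ^ 17 * r) ^ 3 = 1) → r = v
  cent : ∀ g : G, g * u = u * g → g ∈ Subgroup.zpowers u
  noInv : ∀ r ∈ R, (u * r) ^ 2 ≠ 1

variable (D : PairRigid G)

theorem PairRigid.pow_nineteen : D.u ^ 19 = 1 := D.ord ▸ pow_orderOf_eq_one D.u

theorem PairRigid.norm_pow (j : ℕ) (k : ℕ) : D.n ^ j * D.u ^ k * (D.n ^ j)⁻¹ = D.u ^ (4 ^ j * k) := by
  induction j generalizing k with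
  | zero => simp
  | succ j ih =>
    have e : D.n * D.u ^ k * D.n⁻¹ = D.u ^ (4 * k) := by rw [← conj_pow, D.norm, ← pow_mul]
    rw [pow_succ, mul_inv_rev, show D.n ^ j * D.n * D.u ^ k * (D.n⁻¹ * (D.n ^ j)⁻¹) =
      D.n ^ j * (D.n * D.u ^ k * D.n⁻¹) * (D.n ^ j)⁻¹ by group, e, ih, pow_succ, mul_assoc]

theorem PairRigid.normal_form (φ : MulAut G) : ∃ g : G,
    ((MulAut.conj g * φ) D.u = D.u ∨ (MulAut.conj g * φ) D.u = D.u ^ 18) ∧
      (MulAut.conj g * φ) D.v = D.v := by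
  haveI : Fact (Nat.Prime 19) := ⟨by norm_num⟩
  have hord : orderOf (φ D.u) = 19 := (MulEquiv.orderOf_eq φ D.u).trans D.ord
  obtain ⟨g, k, hk, hg⟩ := MathieuOut.exists_conj_zpowers D.sq_not D.ord hord
  have hk0 : k % 19 ≠ 0 := fun h => hk (Nat.dvd_of_mod_eq_zero h)
  obtain ⟨m, hm, hmk⟩ := D.expo (k % 19) (Nat.mod_lt _ (by norm_num)) hk0
  set g₁ := D.n ^ (9 - m) * g with hg₁
  have hu : g₁ * φ D.u * g₁⁻¹ = D.u ∨ g₁ * φ D.u * g₁⁻¹ = D.u ^ 18 := by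
    rw [hg₁, show D.n ^ (9 - m) * g * φ D.u * (D.n ^ (9 - m) * g)⁻¹ =
      D.n ^ (9 - m) * (g * φ D.u * g⁻¹) * (D.n ^ (9 - m))⁻¹ by group, hg, D.norm_pow,
      ← pow_mod_orderOf, D.ord, Nat.mul_mod]
    have h9 : ∀ c : ℕ, 4 ^ (9 - m) % 19 * (c * 4 ^ m % 19) % 19 = c % 19 := fun c => by
      rw [← Nat.mul_mod, show 4 ^ (9 - m) * (c * 4 ^ m) = c * 4 ^ 9 by
        rw [mul_left_comm, ← pow_add, Nat.sub_add_cancel hm.le], Nat.mul_mod]
      norm_num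
    rcases hmk with h | h <;> rw [h]
    · left
      have := h9 1
      rw [one_mul] at this
      rw [this]
      simp
    · right
      rw [h9]
  set ψ := MulAut.conj g₁ * φ with hψ
  have hψu : ψ D.u = D.u ∨ ψ D.u = D.u ^ 18 := hu
  have hv2 : ψ D.v ^ 2 = 1 := by rw [← map_pow, D.vsq, map_one]
  have hv1 : ψ D.v ≠ 1 := fun h => D.vne (ψ.injective (h.trans (map_one ψ).symm))
  obtain ⟨i, r, hr, he⟩ := D.cls _ hv2 hv1
  have hfix : ∀ e : ℕ, (D.u ^ i)⁻¹ * D.u ^ e * D.u ^ i = D.u ^ e := fun e => by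
    rw [mul_assoc, ← pow_add, add_comm, pow_add, inv_mul_cancel_left]
  refine ⟨(D.u ^ i)⁻¹ * g₁, ?_, ?_⟩
  · show (D.u ^ i)⁻¹ * g₁ * φ D.u * ((D.u ^ i)⁻¹ * g₁)⁻¹ = D.u ∨
      (D.u ^ i)⁻¹ * g₁ * φ D.u * ((D.u ^ i)⁻¹ * g₁)⁻¹ = D.u ^ 18
    rw [show (D.u ^ i)⁻¹ * g₁ * φ D.u * ((D.u ^ i)⁻¹ * g₁)⁻¹ =
      (D.u ^ i)⁻¹ * (g₁ * φ D.u * g₁⁻¹) * D.u ^ i by group]
    rcases hu with h | h <;> rw [h]
    · exact Or.inl (by simpa using hfix 1)
    · exact Or.inr (hfix 18)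
  show (D.u ^ i)⁻¹ * g₁ * φ D.v * ((D.u ^ i)⁻¹ * g₁)⁻¹ = D.v
  have he' : g₁ * φ D.v * g₁⁻¹ = D.u ^ i * r * (D.u ^ i)⁻¹ := he
  rw [show (D.u ^ i)⁻¹ * g₁ * φ D.v * ((D.u ^ i)⁻¹ * g₁)⁻¹ =
      (D.u ^ i)⁻¹ * (g₁ * φ D.v * g₁⁻¹) * D.u ^ i by group, he',
    show (D.u ^ i)⁻¹ * (D.u ^ i * r * (D.u ^ i)⁻¹) * D.u ^ i = r by group]
  refine D.rigid r hr ?_
  obtain ⟨h4, h3⟩ := D.selfRel
  have a4 := congrArg ψ h4
  have a3 := congrArg ψ h3
  simp only [map_pow, map_mul, map_one, he] at a4 a3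
  have hback : ∀ e k : ℕ, (D.u ^ e * (D.u ^ i * r * (D.u ^ i)⁻¹)) ^ k = 1 →
      (D.u ^ e * r) ^ k = 1 := fun e k h => by
    rw [show D.u ^ e * (D.u ^ i * r * (D.u ^ i)⁻¹) = D.u ^ i * (D.u ^ e * r) * (D.u ^ i)⁻¹ by
      rw [← mul_assoc, ← mul_assoc, ← pow_add, add_comm, pow_add]; group, conj_pow] at h
    exact conj_eq_one_iff.1 h
  rcases hψu with h | h <;> rw [h] at a4 a3
  · exact Or.inl ⟨by simpa using hback 1 4 (by simpa using a4), hback 2 3 a3⟩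
  · refine Or.inr ⟨hback 18 4 a4, hback 17 3 ?_⟩
    rwa [← pow_mul, show 18 * 2 = 19 + 17 from rfl, pow_add, D.pow_nineteen, one_mul] at a3

include D in
theorem PairRigid.card_out_le : Nat.card (Cfsg.Out G) ≤ 2 := by
  classical
  have h : ∀ q : Cfsg.Out G, ∃ ψ : MulAut G, QuotientGroup.mk ψ = q ∧
      (ψ D.u = D.u ∨ ψ D.u = D.u ^ 18) ∧ ψ D.v = D.v := by
    intro q
    obtain ⟨φ, rfl⟩ := QuotientGroup.mk_surjective q
    obtain ⟨g, h1, h2⟩ := D.normal_form φ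
    refine ⟨MulAut.conj g * φ, ?_, h1, h2⟩
    rw [QuotientGroup.mk_mul, (QuotientGroup.eq_one_iff (N := Cfsg.Inn G) (MulAut.conj g)).2 ⟨g, rfl⟩, one_mul]
  choose ψ hmk hu hv using h
  refine (Nat.card_le_card_of_injective (fun q => decide (ψ q D.u = D.u)) fun a b e => ?_).trans
    (le_of_eq (by simp))
  have eu : ψ a D.u = ψ b D.u := by
    have e' : ψ a D.u = D.u ↔ ψ b D.u = D.u := decide_eq_decide.1 e
    rcases hu a with ha | ha
    · rw [ha, e'.1 ha]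
    · rcases hu b with hb | hb
      · rw [hb, e'.2 hb]
      · rw [ha, hb]
  have heq : (ψ a).toMonoidHom = (ψ b).toMonoidHom :=
    MonoidHom.eq_of_eqOn_dense D.gen fun x hx => by
      rcases hx with rfl | rfl
      · exact eu
      · exact (hv a).trans (hv b).symm
  rw [← hmk a, ← hmk b, show ψ a = ψ b from MulEquiv.ext fun x => DFunLike.congr_fun heq x]

/-- An automorphism sending the element of order nineteen to a conjugate of its inverse is outer. -/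
theorem PairRigid.card_out (α : MulAut G) {c : G} (hα : c * α D.u * c⁻¹ = D.u ^ 18) :
    Nat.card (Cfsg.Out G) = 2 := by
  refine le_antisymm D.card_out_le (MathieuOut.two_le_card_out α fun g hg => ?_)
  set h := c * g with hh
  have hinv : h * D.u * h⁻¹ = D.u ^ 18 := by
    rw [← hα, ← hg, MulAut.conj_apply, hh]
    group
  have hinv' : h * D.u = D.u ^ 18 * h := mul_inv_eq_iff_eq_mul.1 hinv
  have h18 : ∀ k : ℕ, h * D.u ^ k * h⁻¹ = D.u ^ (18 * k) := fun k => by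
    rw [← conj_pow, hinv, ← pow_mul]
  have hsq : h * h * D.u = D.u * (h * h) := by
    rw [mul_assoc, hinv', ← mul_assoc, mul_inv_eq_iff_eq_mul.1 (h18 18), mul_assoc, ← pow_mod_orderOf,
      D.ord]
    norm_num
  obtain ⟨j, hj⟩ : ∃ j : ℕ, D.u ^ j = h * h :=
    (isOfFinOrder_of_finite D.u).mem_powers_iff_mem_zpowers.2 (D.cent _ hsq)
  have h2j : D.u ^ (17 * j) = 1 := by
    have e := h18 j
    rw [hj, show h * (h * h) * h⁻¹ = h * h by group, ← hj, show 18 * j = j + 17 * j by ring,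
      pow_add] at e
    exact mul_left_cancel (e.symm.trans (mul_one _).symm)
  have hj0 : D.u ^ j = 1 := by
    rw [← orderOf_dvd_iff_pow_eq_one, D.ord] at h2j ⊢
    exact ((Nat.Prime.dvd_mul (by norm_num)).1 h2j).resolve_left (by norm_num)
  have hh2 : h ^ 2 = 1 := by rw [pow_two, ← hj, hj0]
  have hh1 : h ≠ 1 := fun e => by
    rw [e, one_mul, inv_one, mul_one] at hinv
    have h17 : D.u ^ 17 = 1 := mul_right_cancel
      ((pow_succ D.u 17).symm.trans (hinv.symm.trans (one_mul _).symm))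
    rw [← orderOf_dvd_iff_pow_eq_one, D.ord] at h17
    norm_num at h17
  obtain ⟨i, r, hr, e⟩ := D.cls h hh2 hh1
  refine D.noInv r hr ?_
  have hinvh : h⁻¹ = h := inv_eq_of_mul_eq_one_right (by rw [← pow_two, hh2])
  have hu2 : (D.u * h) ^ 2 = 1 := by
    rw [pow_two, show D.u * h * (D.u * h) = D.u * (h * D.u * h) by group]
    conv_lhs => arg 2; arg 2; rw [← hinvh]
    rw [hinv, ← pow_succ', D.pow_nineteen]
  rw [e, show D.u * (D.u ^ i * r * (D.u ^ i)⁻¹) = D.u ^ i * (D.u * r) * (D.u ^ i)⁻¹ by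
    rw [← mul_assoc, ← mul_assoc, ← pow_succ', pow_succ]; group, conj_pow] at hu2
  exact conj_eq_one_iff.1 hu2

end CfsgLib.J3.Outer
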