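import Cfsg.Agent.Lib.J3.Out.Defs
import Cfsg.Agent.Lib.J3.InvolCent.Checks

/-!
Kernel checks for the automorphisms of the third Janko group.
-/

set_option autoImplicit false
set_option maxRecDepth 100000

namespace CfsgLib.J3.Outer

open CfsgLib.J3.InvolCent CfsgLib.Fusion.JankoSimple

theorem rigid_ok : (List.range 1377).all rigidChk = true := by decide +kernel

theorem gen_words : wordC wordX = codeX ∧ wordC wordY = codeY ∧ wordX.1 < 3 ∧ wordY.1 < 3 ∧
    (wordX.2.all fun i => i.blt 19) = true ∧ (wordY.2.all fun i => i.blt 19) = true := by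
  decide +kernel

theorem pairRel_self : pairRel 1 2 28 = true ∧ powX 1 = elt19 := by decide +kernel

theorem central_place : zIdx.1 < 19 ∧ zIdx.2 < 1377 ∧ rotElt zIdx.1 zIdx.2 = sc 1 ∧
    mulM tCode tCode = oneM := by decide +kernel

theorem norm_ok : (posCode normPos).beq (posCode normPos) = true ∧
    (normPos.getD 0 0).blt 23256 = true ∧
    mulM (posCode normPos) elt19 = mulM (powX 4) (posCode normPos) := by decide +kernel

theorem twist_ok : okM sigMat = true ∧ posChk (twistC codeX) imXPos = true ∧
    posChk (twistC codeY) imYPos = true ∧ (twistPos.getD 0 0).blt 23256 = true ∧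
    mulM (posCode twistPos) (twistC elt19) = mulM (powX 18) (posCode twistPos) := by decide +kernel

theorem conj_gens_ok : okM (conjM codeX) = true ∧ okM (conjM codeY) = true ∧
    okM (conjM elt19) = true ∧ okM (ctM sigMat) = true ∧ scalB tCode = false := by decide +kernel

theorem four_powers : ∀ k < 19, k ≠ 0 →
    ∃ m < 9, k = 4 ^ m % 19 ∨ k = 18 * 4 ^ m % 19 := by decide +kernel

end CfsgLib.J3.Outer
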