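import Cfsg.Agent.Lib.J3.InvolCent.Defs
import Cfsg.Agent.Lib.J3.Out.Data

/-!
The checks for the automorphisms of the third Janko group.
-/

set_option autoImplicit false

namespace CfsgLib.J3.Outer

open CfsgLib.J3.InvolCent

/-- An involution up to rotation. -/
def rotRep (r : ℕ) : ℕ := lookB rotRepB 162 r

/-- The position of a representative. -/
def rotPos (r : ℕ) : List ℕ :=
  let v := lookB rotPosB 30 r
  [v % 32768, v / 32768 % 32, v / 1048576 % 32, v / 33554432]

/-- A rotated involution. -/
def rotElt (i r : ℕ) : ℕ := mulM (mulM (powX i) (rotRep r)) (powX ((19 - i) % 19))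

/-- The distinguished involution. -/
def tCode : ℕ := rotRep 28

/-- The closure check. -/
def rotChk (m : ℕ) : Bool :=
  let v := lookB rotTabB 16 m
  (v / 2048).blt 19 && (v % 2048).blt 1377 &&
    (mulM (mulM tCode (rotElt (m / 1377) (m % 1377))) tCode).beq (rotElt (v / 2048) (v % 2048))

/-- A scalar code. -/
def scalB (A : ℕ) : Bool := A.beq oneM || A.beq omCode || A.beq (mulM omCode omCode)

/-- The second power. -/
def pow2C (A : ℕ) : ℕ := mulM A A

/-- The relations of the distinguished pair, with exponents `a` and `b`. -/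
def pairRel (a b r : ℕ) : Bool :=
  scalB (pow2C (pow2C (mulM (powX a) (rotRep r)))) &&
    (fun w => scalB (mulM w (pow2C w))) (mulM (powX b) (rotRep r))

/-- The check on a representative. -/
def rigidChk (r : ℕ) : Bool :=
  (InvolCent.posChk (rotRep r) (rotPos r)) && !scalB (pow2C (mulM (powX 1) (rotRep r))) &&
    (r.beq 28 || !pairRel 1 2 r && !pairRel 18 17 r)

/-- The letters of the words. -/
def letC (i : ℕ) : ℕ := if i.beq 0 then tCode else powX i

/-- A word times a scalar. -/
def wordC (e : ℕ × List ℕ) : ℕ :=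
  mulM ([oneM, omCode, mulM omCode omCode].getD e.1 oneM) ((e.2.map letC).foldl mulM oneM)

/-- The conjugate code. -/
def conjM (A : ℕ) : ℕ := mk (p0 A ^^^ p1 A) (p1 A)

/-- The twisted code. -/
def twistC (A : ℕ) : ℕ := mulM (mulM sigMat (conjM A)) (ctM sigMat)

end CfsgLib.J3.Outer
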