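import Cfsg.Agent.Lib.J3.Out.Defs

/-!
Kernel checks for the conjugation table of the involutions.
-/

set_option autoImplicit false
set_option maxRecDepth 20000

namespace CfsgLib.J3.Outer

theorem rotOk_0 : partChk rotChk 26163 0 = true := by decide +kernel

theorem rotOk_1 : partChk rotChk 26163 1 = true := by decide +kernel

theorem rotOk_2 : partChk rotChk 26163 2 = true := by decide +kernel

theorem rotOk_3 : partChk rotChk 26163 3 = true := by decide +kernel

theorem rotOk_4 : partChk rotChk 26163 4 = true := by decide +kernel

theorem rotOk_5 : partChk rotChk 26163 5 = true := by decide +kernel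

theorem rotOk_6 : partChk rotChk 26163 6 = true := by decide +kernel

theorem rotOk_7 : partChk rotChk 26163 7 = true := by decide +kernel

theorem rotOk_8 : partChk rotChk 26163 8 = true := by decide +kernel

theorem rotOk_9 : partChk rotChk 26163 9 = true := by decide +kernel

theorem rotOk_10 : partChk rotChk 26163 10 = true := by decide +kernel

theorem rotOk_11 : partChk rotChk 26163 11 = true := by decide +kernel

theorem rotOk_12 : partChk rotChk 26163 12 = true := by decide +kernel

theorem rotOk_13 : partChk rotChk 26163 13 = true := by decide +kernel

theorem rotOk_14 : partChk rotChk 26163 14 = true := by decide +kernel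

theorem rotOk_15 : partChk rotChk 26163 15 = true := by decide +kernel

end CfsgLib.J3.Outer
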