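import Cfsg.Agent.Lib.J3.Out.Defs

/-!
Kernel checks for the conjugation table of the involutions.
-/

set_option autoImplicit false
set_option maxRecDepth 20000

namespace CfsgLib.J3.Outer

theorem rotOk_16 : partChk rotChk 26163 16 = true := by decide +kernel

theorem rotOk_17 : partChk rotChk 26163 17 = true := by decide +kernel

theorem rotOk_18 : partChk rotChk 26163 18 = true := by decide +kernel

theorem rotOk_19 : partChk rotChk 26163 19 = true := by decide +kernel

theorem rotOk_20 : partChk rotChk 26163 20 = true := by decide +kernel

theorem rotOk_21 : partChk rotChk 26163 21 = true := by decide +kernel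

theorem rotOk_22 : partChk rotChk 26163 22 = true := by decide +kernel

theorem rotOk_23 : partChk rotChk 26163 23 = true := by decide +kernel

theorem rotOk_24 : partChk rotChk 26163 24 = true := by decide +kernel

theorem rotOk_25 : partChk rotChk 26163 25 = true := by decide +kernel

theorem rotOk_26 : partChk rotChk 26163 26 = true := by decide +kernel

theorem rotOk_27 : partChk rotChk 26163 27 = true := by decide +kernel

theorem rotOk_28 : partChk rotChk 26163 28 = true := by decide +kernel

theorem rotOk_29 : partChk rotChk 26163 29 = true := by decide +kernel

theorem rotOk_30 : partChk rotChk 26163 30 = true := by decide +kernel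

theorem rotOk_31 : partChk rotChk 26163 31 = true := by decide +kernel

end CfsgLib.J3.Outer
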