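import Cfsg.Agent.Lib.J3.Out.Abstract
import Cfsg.Agent.Lib.J3.Out.Checks
import Cfsg.Agent.Lib.J3.Out.RotCheck0
import Cfsg.Agent.Lib.J3.Out.RotCheck1
import Cfsg.Agent.Lib.J3.InvolCent.Main

/-!
The outer automorphism group of the third Janko group.
-/

set_option autoImplicit false
set_option maxRecDepth 20000

namespace CfsgLib.J3.Outer

open Cfsg.Spor Matrix CfsgLib.Golay CfsgLib.J3.InvolCent CfsgLib.Fusion.JankoSimple
open scoped MatrixGroups

variable {F : Type*} [Field F] (K : Fld F)

attribute [local irreducible] rep prod3 lookB rotRep rotPos powX elt19 sc mulM okM oneM omCode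
  codeX codeY sigMat normPos twistPos imXPos imYPos wordX wordY tCode zIdx val conjM ctM

theorem scalB_iff (A : ℕ) : scalB A = true ↔ A ∈ scalList := by
  simp [scalB, scalList, Nat.beq_eq, or_assoc]

theorem posChk_self {p : List ℕ} (h : (p.getD 0 0).blt 23256 = true) :
    InvolCent.posChk (InvolCent.posCode p) p = true := by
  simp only [InvolCent.posChk, h, Nat.beq_refl, Bool.and_true]

theorem toMat_conjM {A : ℕ} (hA : A < 2 ^ 162) : toMat K (conjM A) = (toMat K A).map (sq K) := by
  ext i j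
  have hi := ix_lt i
  have hj := ix_lt j
  have h1 : p1 A < 2 ^ 81 := by
    rw [p1, Nat.shiftRight_eq_div_pow, Nat.div_lt_iff_lt_mul (Nat.two_pow_pos _), ← pow_add]
    exact hA
  have h : p0 A ^^^ p1 A < 2 ^ 81 := Nat.xor_lt_two_pow (p0_lt A) h1
  show val2 K _ _ = sq K (val2 K _ _)
  rw [sq_val2]
  unfold conjM
  rw [mk_testBit_low h _ (by omega), mk_testBit_high h, Nat.testBit_xor, p0_testBit _ (by omega),
    p1_testBit]

theorem ctM_spec {A : ℕ} (hA : okM A = true) (hC : okM (ctM A) = true) :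
    val K (ctM A) = (val K A)⁻¹ :=
  Units.ext (by rw [val_coe K hC, val_inv K hA])

section
variable [Finite F]

/-- The quotient map. -/
def proj : grpG K →* grpG K ⧸ Subgroup.center (grpG K) := QuotientGroup.mk' _

theorem proj_eq_one {g : grpG K} : proj K g = 1 ↔ g ∈ Subgroup.center (grpG K) :=
  QuotientGroup.eq_one_iff g

theorem proj_surjective : Function.Surjective (proj K) := QuotientGroup.mk'_surjective _

theorem proj_scal {g : grpG K} {A : ℕ} (h : scalB A = true) (e : g.1 = val K A) : proj K g = 1 :=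
  (proj_eq_one K).2 ((center_eq K).2 ⟨A, (scalB_iff A).1 h, e⟩)

theorem scal_of_proj {g : grpG K} {A : ℕ} (hA : okM A = true) (e : g.1 = val K A)
    (h : proj K g = 1) : scalB A = true := by
  obtain ⟨s, hs, e'⟩ := (center_eq K).1 ((proj_eq_one K).1 h)
  have hsok : okM s = true := List.all_eq_true.1 scalList_ok s hs
  have h1 := congrArg Units.val (e.symm.trans e')
  rw [val_coe K hA, val_coe K hsok] at h1
  rw [toMat_inj K (ok_spec K hA).1 (ok_spec K hsok).1 h1]
  exact (scalB_iff s).2 hs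

/-- The element of order nineteen. -/
def uGen : grpG K := ⟨xElt K, xElt_mem K⟩

theorem uGen_pow {k : ℕ} (hk : k < 19) : okM (powX k) = true ∧ (uGen K ^ k).1 = val K (powX k) := by
  obtain ⟨h1, h2⟩ := powX_spec K hk
  refine ⟨h1, ?_⟩
  rw [SubmonoidClass.coe_pow]
  exact h2.symm

theorem uGen_nineteen : uGen K ^ 19 = 1 := Subtype.ext (by
  rw [SubmonoidClass.coe_pow]; exact xElt_pow K)

theorem rigid_at {r : ℕ} (hr : r < 1377) : rigidChk r = true :=
  List.all_eq_true.1 rigid_ok r (List.mem_range.2 hr)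

theorem rep_mem {r : ℕ} (hr : r < 1377) :
    okM (rotRep r) = true ∧ val K (rotRep r) ∈ grpG K := by
  have h := rigid_at hr
  simp only [rigidChk, Bool.and_eq_true] at h
  obtain ⟨h1, h2, -⟩ := InvolCent.posChk_mem K h.1.1
  exact ⟨h1, h2⟩

/-- A representative as an element. -/
def repG (r : ℕ) : grpG K := if h : r < 1377 then ⟨val K (rotRep r), (rep_mem K h).2⟩ else 1

theorem repG_val {r : ℕ} (hr : r < 1377) : (repG K r).1 = val K (rotRep r) := by
  rw [repG, dif_pos hr]

theorem tCode_eq : tCode = rotRep 28 := by unfold tCode; rfl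

theorem rotElt_val {i r : ℕ} (hi : i < 19) (hr : r < 1377) :
    okM (rotElt i r) = true ∧
      (uGen K ^ i * repG K r * (uGen K ^ i)⁻¹).1 = val K (rotElt i r) := by
  obtain ⟨h1, h2⟩ := uGen_pow K hi
  obtain ⟨h3, h4⟩ := uGen_pow K (Nat.mod_lt (19 - i) (show 19 > 0 by norm_num))
  have hinv : (uGen K ^ i)⁻¹ = uGen K ^ ((19 - i) % 19) := by
    refine inv_eq_of_mul_eq_one_right ?_
    rcases Nat.eq_zero_or_pos i with rfl | hpos
    · simp
    · rw [← pow_add, Nat.mod_eq_of_lt (by omega), Nat.add_sub_cancel' hi.le, uGen_nineteen]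
  refine ⟨ok_mulM (ok_mulM h1 (rep_mem K hr).1 K) h3 K, ?_⟩
  rw [rotElt, val_mulM K (ok_mulM h1 (rep_mem K hr).1 K) h3, val_mulM K h1 (rep_mem K hr).1, ← h2,
    ← h4, hinv, ← repG_val K hr]
  rfl

theorem pairRel_iff {a b r : ℕ} (ha : a < 19) (hb : b < 19) (hr : r < 1377) :
    pairRel a b r = true ↔ proj K (uGen K ^ a * repG K r) ^ 4 = 1 ∧
      proj K (uGen K ^ b * repG K r) ^ 3 = 1 := by
  obtain ⟨h1, h2⟩ := uGen_pow K ha
  obtain ⟨h3, h4⟩ := uGen_pow K hb
  have hr' := (rep_mem K hr).1
  have ho1 := ok_mulM h1 hr' K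
  have ho2 := ok_mulM h3 hr' K
  have hq : okM (pow2C (mulM (powX a) (rotRep r))) = true := ok_mulM ho1 ho1 K
  have e1 : ((uGen K ^ a * repG K r) ^ 4).1 =
      val K (pow2C (pow2C (mulM (powX a) (rotRep r)))) := by
    simp only [pow2C, val_mulM K (ok_mulM ho1 ho1 K) (ok_mulM ho1 ho1 K), val_mulM K ho1 ho1,
      val_mulM K h1 hr', ← h2, ← repG_val K hr, ← Subgroup.coe_mul]
    congr 1
    simp only [pow_succ, pow_zero, one_mul, mul_assoc]
  have e2 : ((uGen K ^ b * repG K r) ^ 3).1 =
      val K (mulM (mulM (powX b) (rotRep r)) (pow2C (mulM (powX b) (rotRep r)))) := by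
    simp only [pow2C, val_mulM K ho2 (ok_mulM ho2 ho2 K), val_mulM K ho2 ho2,
      val_mulM K h3 hr', ← h4, ← repG_val K hr, ← Subgroup.coe_mul]
    congr 1
    simp only [pow_succ, pow_zero, one_mul, mul_assoc]
  rw [← map_pow, ← map_pow]
  simp only [pairRel, Bool.and_eq_true]
  exact ⟨fun h => ⟨proj_scal K h.1 e1, proj_scal K h.2 e2⟩, fun h =>
    ⟨scal_of_proj K (ok_mulM hq hq K) e1 h.1,
      scal_of_proj K (ok_mulM ho2 (ok_mulM ho2 ho2 K) K) e2 h.2⟩⟩

theorem rotChk_all {m : ℕ} (hm : m < 26163) : rotChk m = true := of_part (m := 32) (fun s hs => by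
  interval_cases s
  exacts [rotOk_0, rotOk_1, rotOk_2, rotOk_3, rotOk_4, rotOk_5, rotOk_6, rotOk_7, rotOk_8, rotOk_9,
    rotOk_10, rotOk_11, rotOk_12, rotOk_13, rotOk_14, rotOk_15, rotOk_16, rotOk_17, rotOk_18,
    rotOk_19, rotOk_20, rotOk_21, rotOk_22, rotOk_23, rotOk_24, rotOk_25, rotOk_26, rotOk_27,
    rotOk_28, rotOk_29, rotOk_30, rotOk_31]) (by norm_num) hm

theorem rot_step {i r : ℕ} (hi : i < 19) (hr : r < 1377) : ∃ j < 19, ∃ q < 1377,
    repG K 28 * (uGen K ^ i * repG K r * (uGen K ^ i)⁻¹) * repG K 28 =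
      uGen K ^ j * repG K q * (uGen K ^ j)⁻¹ := by
  have h := rotChk_all (show i * 1377 + r < 26163 by omega)
  simp only [rotChk, Bool.and_eq_true, Nat.blt_eq, Nat.beq_eq,
    show (i * 1377 + r) / 1377 = i by omega, show (i * 1377 + r) % 1377 = r by omega,
    tCode_eq] at h
  obtain ⟨⟨h1, h2⟩, h3⟩ := h
  refine ⟨_, h1, _, h2, Subtype.ext ?_⟩
  have ht := (rep_mem K (show 28 < 1377 by norm_num)).1
  rw [Subgroup.coe_mul, Subgroup.coe_mul, (rotElt_val K hi hr).2, (rotElt_val K h1 h2).2,
    repG_val K (by norm_num), ← h3,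
    val_mulM K (ok_mulM ht (rotElt_val K hi hr).1 K) ht, val_mulM K ht (rotElt_val K hi hr).1]

theorem letter_ok {i : ℕ} (hi : i < 19) : okM (letC i) = true ∧
    (if i = 0 then repG K 28 else uGen K ^ i).1 = val K (letC i) := by
  by_cases h : i = 0
  · subst h
    rw [if_pos rfl, repG_val K (by norm_num), letC, Nat.beq_refl, if_pos rfl, tCode_eq]
    exact ⟨(rep_mem K (by norm_num)).1, rfl⟩
  · rw [if_neg h, letC, if_neg (by simpa [Nat.beq_eq] using h)]
    exact uGen_pow K hi

theorem word_mem (H : Subgroup (grpG K)) (hH : ∀ i < 19, (if i = 0 then repG K 28 else uGen K ^ i) ∈ H)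
    (hz : Subgroup.center (grpG K) ≤ H) {e : ℕ × List ℕ} (he : e.1 < 3)
    (hw : (e.2.all fun i => i.blt 19) = true) :
    ∃ g ∈ H, g.1 = val K (wordC e) := by
  simp only [List.all_eq_true, Nat.blt_eq] at hw
  have key : ∀ (L : List ℕ) (A : ℕ), (∀ i ∈ L, i < 19) → okM A = true →
      (∃ g ∈ H, g.1 = val K A) →
      okM ((L.map letC).foldl mulM A) = true ∧ ∃ g ∈ H, g.1 = val K ((L.map letC).foldl mulM A) := by
    intro L
    induction L with
    | nil => exact fun A _ hA h => ⟨hA, h⟩
    | cons i L ih =>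
      intro A hL hA hg
      obtain ⟨g, hgH, hge⟩ := hg
      obtain ⟨h1, h2⟩ := letter_ok K (hL i List.mem_cons_self)
      refine ih _ (fun j hj => hL j (List.mem_cons_of_mem _ hj)) (ok_mulM hA h1 K)
        ⟨_, H.mul_mem hgH (hH i (hL i List.mem_cons_self)), ?_⟩
      rw [Subgroup.coe_mul, hge, h2, val_mulM K hA h1]
  obtain ⟨h1, g, hg, hge⟩ := key e.2 oneM hw ok_oneM ⟨1, H.one_mem, (val_oneM K).symm⟩
  set s := [oneM, omCode, mulM omCode omCode].getD e.1 oneM with hs
  have hsm : s ∈ scalList := by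
    obtain h | h | h : e.1 = 0 ∨ e.1 = 1 ∨ e.1 = 2 := by omega
    all_goals rw [hs, h]; simp [scalList]
  refine ⟨⟨val K s, scal_mem K hsm⟩ * g, H.mul_mem (hz ((center_eq K).2 ⟨s, hsm, rfl⟩)) hg, ?_⟩
  rw [Subgroup.coe_mul, hge, wordC, val_mulM K (List.all_eq_true.1 scalList_ok s hsm) h1]

theorem closure_pair :
    Subgroup.closure ({proj K (uGen K), proj K (repG K 28)} : Set _) = ⊤ := by
  set S := Subgroup.closure ({proj K (uGen K), proj K (repG K 28)} : Set _) with hS
  set H := S.comap (proj K) with hHdef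
  have hH : ∀ i < 19, (if i = 0 then repG K 28 else uGen K ^ i) ∈ H := fun i _ => by
    split_ifs
    · exact Subgroup.subset_closure (by simp)
    · exact H.pow_mem (Subgroup.subset_closure (by simp)) i
  have hz : Subgroup.center (grpG K) ≤ H := fun g hg => by
    rw [hHdef, Subgroup.mem_comap, (proj_eq_one K).2 hg]
    exact S.one_mem
  obtain ⟨e1, e2, e3, e4, e5, e6⟩ := gen_words
  obtain ⟨a, ha, hae⟩ := word_mem K H hH hz e3 e5
  obtain ⟨b, hb, hbe⟩ := word_mem K H hH hz e4 e6
  have htop : H = ⊤ := by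
    refine eq_top_iff.2 fun g _ => ?_
    have hg : g.1 ∈ H.map (grpG K).subtype := by
      refine (Subgroup.closure_le _).2 ?_ g.2
      rintro x (rfl | rfl)
      · exact ⟨a, ha, by rw [← e1]; exact hae⟩
      · exact ⟨b, hb, by rw [← e2]; exact hbe⟩
    obtain ⟨g', hg', e⟩ := hg
    rwa [← Subtype.ext e]
  refine eq_top_iff.2 fun q _ => ?_
  obtain ⟨g, rfl⟩ := proj_surjective K q
  have hg : g ∈ H := htop ▸ Subgroup.mem_top g
  exact hg

/-- The involutions up to rotation, in the quotient. -/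
def rotSet : Set (grpG K ⧸ Subgroup.center (grpG K)) :=
  {y | ∃ r < 1377, proj K (repG K r) = y}

theorem invol_cover {y : grpG K ⧸ Subgroup.center (grpG K)} (h2 : y ^ 2 = 1) (h1 : y ≠ 1) :
    ∃ i, ∃ r ∈ rotSet K, y = proj K (uGen K) ^ i * r * (proj K (uGen K) ^ i)⁻¹ := by
  haveI : Finite (grpG K) := Nat.finite_of_card_ne_zero (by rw [card_grpG]; norm_num)
  haveI : Fact (Nat.Prime 2) := ⟨Nat.prime_two⟩
  set u := proj K (uGen K) with hu
  set t := proj K (repG K 28) with ht
  let Good : grpG K ⧸ Subgroup.center (grpG K) → Prop := fun a =>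
    ∃ i < 19, ∃ r < 1377, a = u ^ i * proj K (repG K r) * (u ^ i)⁻¹
  have hu19 : u ^ 19 = 1 := by rw [hu, ← map_pow, uGen_nineteen, map_one]
  have htt : t * t = 1 := by
    rw [ht, ← map_mul]
    have e : repG K 28 * repG K 28 = 1 := Subtype.ext (by
      have hr := (rep_mem K (show 28 < 1377 by norm_num)).1
      rw [Subgroup.coe_mul, repG_val K (by norm_num), ← val_mulM K hr hr, ← tCode_eq,
        central_place.2.2.2, val_oneM]
      rfl)
    rw [e, map_one]
  let M : Submonoid (grpG K ⧸ Subgroup.center (grpG K)) :=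
    { carrier := {g | ∀ a, Good a → Good (g * a * g⁻¹)}
      one_mem' := fun a ha => by simpa using ha
      mul_mem' := fun {g g'} hg hg' a ha => by
        have := hg _ (hg' a ha)
        simpa [mul_assoc] using this }
  have hM : ∀ g, g ∈ M := by
    intro g
    have hg : g ∈ Subgroup.closure ({u, t} : Set _) := closure_pair K ▸ Subgroup.mem_top g
    rw [← Subgroup.mem_toSubmonoid, Subgroup.closure_toSubmonoid_of_finite] at hg
    refine (Submonoid.closure_le.2 ?_) hg
    rintro x (rfl | rfl) a ⟨i, hi, r, hr, rfl⟩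
    · refine ⟨(i + 1) % 19, Nat.mod_lt _ (by norm_num), r, hr, ?_⟩
      rw [← pow_eq_pow_mod _ hu19, pow_succ']
      group
    · obtain ⟨j, hj, q, hq, e⟩ := rot_step K hi hr
      refine ⟨j, hj, q, hq, ?_⟩
      rw [inv_eq_of_mul_eq_one_right htt, hu, ht]
      simp only [← map_pow, ← map_inv, ← map_mul]
      rw [e]
  obtain ⟨hz1, hz2, hz3, -⟩ := central_place
  have hzgood : Good (proj K (zElt K)) := by
    refine ⟨_, hz1, _, hz2, ?_⟩
    rw [hu]
    simp only [← map_pow, ← map_inv, ← map_mul]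
    congr 1
    refine Subtype.ext ?_
    rw [(rotElt_val K hz1 hz2).2, hz3, zElt, elt_eq K (show 1 < 128 by norm_num)]
    rfl
  have hcl := (InvolCent.oneInvolClass K).1 (proj K (zElt K)) y
    (orderOf_eq_prime (by rw [← map_pow, pow_two, zElt_sq, map_one]) fun h => zElt_ne_one K (by
      have h3 := center_pow_three K ((proj_eq_one K).1 h)
      rwa [pow_succ, pow_two, zElt_sq, one_mul] at h3))
    (orderOf_eq_prime h2 h1)
  obtain ⟨c, hc⟩ := _root_.isConj_iff.1 hcl
  obtain ⟨i, -, r, hr, e⟩ := hM c _ hzgood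
  exact ⟨i, _, ⟨r, hr, rfl⟩, hc.symm.trans e⟩

/-- The rigid pair. -/
def pairRigid : PairRigid (grpG K ⧸ Subgroup.center (grpG K)) where
  u := proj K (uGen K)
  v := proj K (repG K 28)
  n := proj K ⟨val K (InvolCent.posCode normPos), (InvolCent.posChk_mem K
    (c := InvolCent.posCode normPos) (p := normPos)
    (posChk_self norm_ok.2.1)).2.1⟩
  R := rotSet K
  ord := by
    haveI : Fact (Nat.Prime 19) := ⟨by norm_num⟩
    refine orderOf_eq_prime (by rw [← map_pow, uGen_nineteen, map_one]) fun h => ?_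
    have h3 := center_pow_three K ((proj_eq_one K).1 h)
    have h1 : uGen K = 1 := by
      have := uGen_nineteen K
      rwa [show 19 = 3 * 6 + 1 from rfl, pow_succ, pow_mul, h3, one_pow, one_mul] at this
    have e := (uGen_pow K (show 1 < 19 by norm_num)).2
    rw [pow_one, h1, OneMemClass.coe_one, ← val_oneM K] at e
    have ok1 := (uGen_pow K (show 1 < 19 by norm_num)).1
    have e' := congrArg Units.val e
    rw [val_coe K ok_oneM, val_coe K ok1] at e'
    exact elt19_ne (pairRel_self.2 ▸ (toMat_inj K oneM_lt (ok_spec K ok1).1 e').symm)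
  sq_not := by rw [card_quotient K]; norm_num
  gen := closure_pair K
  norm := by
    rw [← map_inv, ← map_mul, ← map_mul, ← map_pow]
    congr 1
    rw [mul_inv_eq_iff_eq_mul]
    refine Subtype.ext ?_
    have hok : okM (InvolCent.posCode normPos) = true := (InvolCent.posChk_mem K
      (c := InvolCent.posCode normPos) (p := normPos)
      (posChk_self norm_ok.2.1)).1
    obtain ⟨h4, e4⟩ := uGen_pow K (show 4 < 19 by norm_num)
    rw [Subgroup.coe_mul, Subgroup.coe_mul, e4, ← val_mulM K h4 hok]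
    exact (val_mulM K hok elt19_ok.1).symm.trans (congrArg (val K) norm_ok.2.2)
  expo := four_powers
  vsq := by
    rw [← map_pow]
    have e : repG K 28 ^ 2 = 1 := Subtype.ext (by
      have hr := (rep_mem K (show 28 < 1377 by norm_num)).1
      rw [SubmonoidClass.coe_pow, pow_two, repG_val K (by norm_num), ← val_mulM K hr hr,
        ← tCode_eq, central_place.2.2.2, val_oneM]
      rfl)
    rw [e, map_one]
  vne := fun h => by
    have hr := (rep_mem K (show 28 < 1377 by norm_num)).1
    have hs := scal_of_proj K hr (repG_val K (by norm_num)) h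
    rw [← tCode_eq, conj_gens_ok.2.2.2.2] at hs
    exact Bool.noConfusion hs
  cls := fun y h2 h1 => invol_cover K h2 h1
  selfRel := by
    have hp := (pairRel_iff K (a := 1) (b := 2) (by norm_num) (by norm_num)
      (show 28 < 1377 by norm_num)).1 pairRel_self.1
    simpa using hp
  rigid := by
    rintro _ ⟨r, hr, rfl⟩ h
    have hc := rigid_at hr
    simp only [rigidChk, Bool.and_eq_true, Bool.or_eq_true, Nat.beq_eq, Bool.not_eq_true'] at hc
    rcases hc.2 with rfl | ⟨hA, hB⟩
    · rfl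
    exfalso
    rcases h with h | h
    · rw [(pairRel_iff K (a := 1) (b := 2) (by norm_num) (by norm_num) hr).2
        (by simpa using h)] at hA
      exact Bool.noConfusion hA
    · rw [(pairRel_iff K (a := 18) (b := 17) (by norm_num) (by norm_num) hr).2
        (by simpa using h)] at hB
      exact Bool.noConfusion hB
  cent := by
    intro q hq
    obtain ⟨g, rfl⟩ := proj_surjective K q
    rw [← map_mul, ← map_mul] at hq
    have hz : (g * uGen K * g⁻¹) * (uGen K)⁻¹ ∈ Subgroup.center (grpG K) := by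
      rw [← proj_eq_one, map_mul, map_inv, mul_inv_eq_one, map_mul, hq, map_mul, map_inv,
        mul_inv_cancel_right]
    set c := (g * uGen K * g⁻¹) * (uGen K)⁻¹ with hc
    have e : g * uGen K * g⁻¹ = c * uGen K := by rw [hc, inv_mul_cancel_right]
    have hcomm : Commute c (uGen K) := (Subgroup.mem_center_iff.1 hz (uGen K)).symm
    have e19 := congrArg (· ^ 19) e
    simp only [conj_pow, hcomm.mul_pow, uGen_nineteen, mul_one, mul_inv_cancel] at e19
    have hc1 : c = 1 := by
      rwa [show 19 = 3 * 6 + 1 from rfl, pow_succ, pow_mul, center_pow_three K hz, one_pow, one_mul,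
        eq_comm] at e19
    rw [hc1, one_mul, mul_inv_eq_iff_eq_mul] at e
    obtain ⟨s, hs, j, -, e5⟩ := cent_elt19 K g.2 (congrArg Subtype.val e)
    refine Subgroup.mem_zpowers_iff.2 ⟨j, ?_⟩
    have eg : g = ⟨val K s, scal_mem K hs⟩ * uGen K ^ j :=
      Subtype.ext (by rw [Subgroup.coe_mul, SubmonoidClass.coe_pow]; exact e5)
    rw [zpow_natCast, eg, map_mul, map_pow,
      proj_scal K (g := ⟨val K s, scal_mem K hs⟩) ((scalB_iff s).2 hs) rfl, one_mul]
  noInv := by
    rintro _ ⟨r, hr, rfl⟩ h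
    have hc := rigid_at hr
    simp only [rigidChk, Bool.and_eq_true, Bool.not_eq_true'] at hc
    obtain ⟨h1, e1⟩ := uGen_pow K (show 1 < 19 by norm_num)
    have hr' := (rep_mem K hr).1
    have e : ((uGen K * repG K r) ^ 2).1 = val K (pow2C (mulM (powX 1) (rotRep r))) := by
      rw [pow2C, val_mulM K (ok_mulM h1 hr' K) (ok_mulM h1 hr' K), val_mulM K h1 hr', ← e1,
        ← repG_val K hr, SubmonoidClass.coe_pow, pow_two, pow_one]
      rfl
    rw [← map_mul, ← map_pow] at h
    have hs : scalB (pow2C (mulM (powX 1) (rotRep r))) = true :=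
      scal_of_proj K (ok_mulM (ok_mulM h1 hr' K) (ok_mulM h1 hr' K) K) e h
    rw [hs] at hc
    exact Bool.noConfusion hc.1.2

/-- Conjugation of the inverse transpose by the permutation matrix. -/
def glTwist : GL F9 F →* GL F9 F :=
  (MulAut.conj (val K sigMat)).toMonoidHom.comp (Units.map (sq K).mapMatrix.toMonoidHom)

theorem glTwist_val {A : ℕ} (h : okM A = true) (h' : okM (conjM A) = true) :
    glTwist K (val K A) = val K (twistC A) := by
  have hs := twist_ok.1
  have e : Units.map (sq K).mapMatrix.toMonoidHom (val K A) = val K (conjM A) := by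
    refine Units.ext ?_
    rw [val_coe K h', toMat_conjM K (ok_spec K h).1]
    show (val K A : Matrix F9 F9 F).map (sq K) = _
    rw [val_coe K h]
  have hct : okM (ctM sigMat) = true ∧ val K (ctM sigMat) = (val K sigMat)⁻¹ :=
    ⟨conj_gens_ok.2.2.2.1, ctM_spec K hs conj_gens_ok.2.2.2.1⟩
  show val K sigMat * Units.map (sq K).mapMatrix.toMonoidHom (val K A) * (val K sigMat)⁻¹ = _
  rw [e, twistC, val_mulM K (ok_mulM hs h' K) hct.1, val_mulM K hs h', hct.2]

theorem glTwist_injective : Function.Injective (glTwist K) := fun x y e => by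
  have h : Units.map (sq K).mapMatrix.toMonoidHom x = Units.map (sq K).mapMatrix.toMonoidHom y :=
    (MulAut.conj (val K sigMat)).injective e
  exact Units.ext (Matrix.map_injective (sq K).injective (congrArg Units.val h))

/-- The twist on the matrix group. -/
theorem twist_mem : ∀ g ∈ grpG K, glTwist K g ∈ grpG K := by
  intro g hg
  have hgen : grpG K ≤ (grpG K).comap (glTwist K) := (Subgroup.closure_le _).2 (by
    rintro x (rfl | rfl)
    · rw [SetLike.mem_coe, Subgroup.mem_comap, glTwist_val K ok_gens.1 conj_gens_ok.1]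
      exact (InvolCent.posChk_mem K twist_ok.2.1).2.1
    · rw [SetLike.mem_coe, Subgroup.mem_comap, glTwist_val K ok_gens.2 conj_gens_ok.2.1]
      exact (InvolCent.posChk_mem K twist_ok.2.2.1).2.1)
  exact hgen hg

theorem card_out_quotient : Nat.card (Cfsg.Out (grpG K ⧸ Subgroup.center (grpG K))) = 2 := by
  haveI : Finite (grpG K) := Nat.finite_of_card_ne_zero (by rw [card_grpG]; norm_num)
  let f : grpG K →* grpG K := ((glTwist K).comp (grpG K).subtype).codRestrict _ fun g =>
    twist_mem K g.1 g.2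
  have hf : Function.Bijective f := Finite.injective_iff_bijective.1 fun a b e =>
    Subtype.ext (glTwist_injective K (congrArg Subtype.val e))
  let e := MulEquiv.ofBijective f hf
  have hZ : (Subgroup.center (grpG K)).map e.toMonoidHom = Subgroup.center (grpG K) := by
    refine Subgroup.eq_of_le_of_card_ge ?_ (le_of_eq
      (Nat.card_congr (Subgroup.equivMapOfInjective _ _ e.injective).toEquiv))
    rintro _ ⟨a, ha, rfl⟩
    refine Subgroup.mem_center_iff.2 fun b => ?_
    obtain ⟨b', rfl⟩ := e.surjective b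
    show e b' * e a = e a * e b'
    rw [← map_mul, ← map_mul, Subgroup.mem_center_iff.1 ha b']
  let α : MulAut (grpG K ⧸ Subgroup.center (grpG K)) := QuotientGroup.congr _ _ e hZ
  have hα : ∀ g, α (proj K g) = proj K (e g) := fun g => rfl
  have hc : InvolCent.posChk (InvolCent.posCode twistPos) twistPos = true := by
    exact posChk_self twist_ok.2.2.2.1
  obtain ⟨hok, hmem, -⟩ := InvolCent.posChk_mem K hc
  refine (pairRigid K).card_out α (c := proj K ⟨_, hmem⟩) ?_
  show proj K ⟨_, hmem⟩ * α (proj K (uGen K)) * (proj K ⟨_, hmem⟩)⁻¹ = proj K (uGen K) ^ 18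
  rw [hα, ← map_inv, ← map_mul, ← map_mul, ← map_pow]
  congr 1
  rw [mul_inv_eq_iff_eq_mul]
  refine Subtype.ext ?_
  obtain ⟨h18, e18⟩ := uGen_pow K (show 18 < 19 by norm_num)
  have etw : (e (uGen K)).1 = val K (twistC elt19) := glTwist_val K elt19_ok.1 conj_gens_ok.2.2.1
  have hok19 : okM (twistC elt19) = true := by
    have hs := twist_ok.1
    exact ok_mulM (ok_mulM hs conj_gens_ok.2.2.1 K) conj_gens_ok.2.2.2.1 K
  rw [Subgroup.coe_mul, Subgroup.coe_mul, etw, e18, ← val_mulM K hok hok19, twist_ok.2.2.2.2,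
    val_mulM K h18 hok]

/-- Transfer to an equal subgroup. -/
theorem card_out_of_eq {H : Subgroup (GL F9 F)} (h : grpG K = H) :
    Nat.card (Cfsg.Out (H ⧸ Subgroup.center H)) = 2 := by
  subst h
  exact card_out_quotient K

end

end CfsgLib.J3.Outer
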